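import Mathlib

/-! helper7: a local ring essentially of finite type over a local ring is a localization of a
quotient of a localized polynomial ring at a maximal ideal over the maximal ideal (generators are
inverted where needed so that their residues lie in a dominating valuation subring). -/

set_option linter.style.haveILetI false
set_option linter.unusedVariables false
set_option linter.unusedSectionVars false
set_option linter.overlappingInstances false

open IsLocalRing

namespace Groth.Agent.Helper7.EssLoc

universe u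

variable {R S : Type u} [CommRing R] [CommRing S] [Algebra R S]

/-- fractions with numerator and unit denominator in a subalgebra -/
def IsFrac (B : Subalgebra R S) (z : S) : Prop := ∃ b ∈ B, IsUnit b ∧ z * b ∈ B

theorem isFrac_of_mem {B : Subalgebra R S} {z : S} (hz : z ∈ B) : IsFrac B z :=
  ⟨1, B.one_mem, isUnit_one, by rwa [mul_one]⟩

theorem isFrac_add {B : Subalgebra R S} {z w : S} (hz : IsFrac B z) (hw : IsFrac B w) :
    IsFrac B (z + w) := by
  obtain ⟨b, hb, hbu, hzb⟩ := hz
  obtain ⟨c, hc, hcu, hwc⟩ := hw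
  refine ⟨b * c, B.mul_mem hb hc, hbu.mul hcu, ?_⟩
  have : (z + w) * (b * c) = (z * b) * c + (w * c) * b := by ring
  rw [this]
  exact B.add_mem (B.mul_mem hzb hc) (B.mul_mem hwc hb)

theorem isFrac_mul {B : Subalgebra R S} {z w : S} (hz : IsFrac B z) (hw : IsFrac B w) :
    IsFrac B (z * w) := by
  obtain ⟨b, hb, hbu, hzb⟩ := hz
  obtain ⟨c, hc, hcu, hwc⟩ := hw
  refine ⟨b * c, B.mul_mem hb hc, hbu.mul hcu, ?_⟩
  have : (z * w) * (b * c) = (z * b) * (w * c) := by ring
  rw [this]
  exact B.mul_mem hzb hwc

/-- a fraction of fractions is a fraction -/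
theorem isFrac_of_isFrac {B : Subalgebra R S} {z b : S} (hb : IsFrac B b) (hbu : IsUnit b)
    (hzb : IsFrac B (z * b)) : IsFrac B z := by
  obtain ⟨c, hc, hcu, hbc⟩ := hb
  obtain ⟨d, hd, hdu, hzbd⟩ := hzb
  refine ⟨(b * c) * d, B.mul_mem hbc hd, (hbu.mul hcu).mul hdu, ?_⟩
  have : z * ((b * c) * d) = (z * b * d) * c := by ring
  rw [this]
  exact B.mul_mem hzbd hc

theorem main [IsLocalRing R] [IsLocalRing S] [Algebra.EssFiniteType R S] :
    ∃ (n : ℕ) (m : Ideal (MvPolynomial (Fin n) R)) (_ : m.IsMaximal),
      m.under R = IsLocalRing.maximalIdeal R ∧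
      ∃ (φ : Localization.AtPrime m →ₐ[R] S) (T : Submonoid φ.range), IsLocalization T S := by
  classical
  obtain ⟨σ, hσ⟩ := (Algebra.essFiniteType_iff (R := R) (S := S)).1 inferInstance
  set res : S →+* ResidueField S := residue S with hres
  set ρ : R →+* ResidueField S := res.comp (algebraMap R S) with hρ
  set I₀ : Ideal ρ.range := (maximalIdeal R).map ρ.rangeRestrict with hI₀def
  have hI₀ : I₀ ≠ ⊤ := by
    intro htop
    have h1 : (1 : ρ.range) ∈ I₀ := by rw [htop]; trivial
    rw [hI₀def, Ideal.mem_map_iff_of_surjective _ ρ.rangeRestrict_surjective] at h1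
    obtain ⟨a, ha, ha1⟩ := h1
    have h2 : ρ a = 1 := congr_arg Subtype.val ha1
    have h3 : IsUnit (1 - a) := IsLocalRing.isUnit_one_sub_self_of_mem_nonunits a ha
    have h4 : ρ (1 - a) = 0 := by rw [map_sub, map_one, h2, sub_self]
    have := h3.map ρ
    rw [h4] at this
    exact not_isUnit_zero this
  obtain ⟨V, hAV, hIV⟩ := Ideal.image_subset_nonunits_valuationSubring I₀ hI₀
  -- the new generators
  let τ : S → S := fun s => if res s ∈ V then s else Ring.inverse s
  have hτV : ∀ s, res (τ s) ∈ V := by
    intro s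
    by_cases h : res s ∈ V
    · simp only [τ, if_pos h]; exact h
    · have hu : IsUnit s := by
        by_contra hns
        apply h
        have : res s = 0 := (IsLocalRing.residue_eq_zero_iff s).2 hns
        rw [this]
        exact V.zero_mem
      simp only [τ, if_neg h]
      obtain ⟨u, rfl⟩ := hu
      rw [Ring.inverse_unit, map_units_inv]
      exact (V.mem_or_inv_mem (res u)).resolve_left h
  have hτfrac : ∀ s, IsFrac (Algebra.adjoin R (τ '' (σ : Set S))) s ∨ s ∉ (σ : Set S) := by
    intro s
    by_cases hs : s ∈ (σ : Set S)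
    · left
      by_cases h : res s ∈ V
      · apply isFrac_of_mem
        apply Algebra.subset_adjoin
        refine ⟨s, hs, ?_⟩
        simp only [τ, if_pos h]
      · have hu : IsUnit s := by
          by_contra hns
          apply h
          have : res s = 0 := (IsLocalRing.residue_eq_zero_iff s).2 hns
          rw [this]
          exact V.zero_mem
        have hmem : Ring.inverse s ∈ Algebra.adjoin R (τ '' (σ : Set S)) := by
          apply Algebra.subset_adjoin
          refine ⟨s, hs, ?_⟩
          simp only [τ, if_neg h]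
        refine ⟨Ring.inverse s, hmem, ?_, ?_⟩
        · obtain ⟨u, rfl⟩ := hu
          rw [Ring.inverse_unit]
          exact u⁻¹.isUnit
        · rw [Ring.mul_inverse_cancel s hu]
          exact Subalgebra.one_mem _
    · right; exact hs
  set B' : Subalgebra R S := Algebra.adjoin R (τ '' (σ : Set S)) with hB'
  have hfracB : ∀ z ∈ Algebra.adjoin R (σ : Set S), IsFrac B' z := by
    intro z hz
    induction hz using Algebra.adjoin_induction with
    | mem x hx => exact (hτfrac x).resolve_right (not_not.2 hx)
    | algebraMap r => exact isFrac_of_mem (Subalgebra.algebraMap_mem _ r)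
    | add x y _ _ hx hy => exact isFrac_add hx hy
    | mul x y _ _ hx hy => exact isFrac_mul hx hy
  have hfrac : ∀ z : S, IsFrac B' z := by
    intro z
    obtain ⟨b, hb, hbu, hzb⟩ := hσ z
    exact isFrac_of_isFrac (hfracB b hb) hbu (hfracB _ hzb)
  -- polynomial ring
  set n := σ.card with hn
  let t : Fin n → S := fun i => τ (σ.equivFin.symm i)
  have ht_range : Set.range t = τ '' (σ : Set S) := by
    ext x
    constructor
    · rintro ⟨i, rfl⟩
      exact ⟨(σ.equivFin.symm i : S), (σ.equivFin.symm i).2, rfl⟩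
    · rintro ⟨s, hs, rfl⟩
      exact ⟨σ.equivFin ⟨s, hs⟩, by simp [t]⟩
  set ψ : MvPolynomial (Fin n) R →ₐ[R] S := MvPolynomial.aeval t with hψ
  have hψrange : ψ.range = B' := by
    rw [hB', ← ht_range, hψ]
    exact (Algebra.adjoin_range_eq_range_aeval R t).symm
  set θ : MvPolynomial (Fin n) R →+* ResidueField S := res.comp ψ.toRingHom with hθ
  have hθV : ∀ f, θ f ∈ V.toSubring := by
    intro f
    induction f using MvPolynomial.induction_on with
    | C r =>
      have : θ (MvPolynomial.C r) = ρ r := by
        simp [hθ, hρ, hψ]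
      rw [this]
      exact hAV ⟨r, rfl⟩
    | add f g hf hg => rw [map_add]; exact V.toSubring.add_mem hf hg
    | mul_X f i hf =>
      rw [map_mul]
      refine V.toSubring.mul_mem hf ?_
      have : θ (MvPolynomial.X i) = res (t i) := by simp [hθ, hψ]
      rw [this]
      exact hτV _
  set θV : MvPolynomial (Fin n) R →+* V := θ.codRestrict V.toSubring hθV with hθVdef
  have hθVcoe : ∀ f, ((θV f : V) : ResidueField S) = θ f := fun f => rfl
  set m' : Ideal (MvPolynomial (Fin n) R) := (maximalIdeal V).comap θV with hm'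
  have hm'top : m' ≠ ⊤ := by
    intro h
    have h1 : (1 : MvPolynomial (Fin n) R) ∈ m' := by rw [h]; trivial
    rw [hm', Ideal.mem_comap, map_one] at h1
    exact (maximalIdeal.isMaximal V).ne_top ((Ideal.eq_top_iff_one _).2 h1)
  obtain ⟨m, hm, hm'm⟩ := Ideal.exists_le_maximal m' hm'top
  have hmem_m' : ∀ f, θ f ∈ V.nonunits → f ∈ m' := by
    intro f hf
    rw [hm', Ideal.mem_comap, ← ValuationSubring.coe_mem_nonunits_iff, hθVcoe]
    exact hf
  have hunder : m.under R = maximalIdeal R := by
    symm
    apply (maximalIdeal.isMaximal R).eq_of_le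
    · intro h
      have h1 : (1 : R) ∈ m.under R := by rw [h]; trivial
      rw [Ideal.under_def, Ideal.mem_comap, map_one] at h1
      exact hm.ne_top ((Ideal.eq_top_iff_one _).2 h1)
    · intro r hr
      rw [Ideal.under_def, Ideal.mem_comap]
      apply hm'm
      apply hmem_m'
      have : θ (algebraMap R (MvPolynomial (Fin n) R) r) = ρ r := by
        simp [hθ, hρ, hψ]
      rw [this]
      apply hIV
      exact ⟨ρ.rangeRestrict r, Ideal.mem_map_of_mem _ hr, rfl⟩
  have hunit : ∀ y : m.primeCompl, IsUnit (ψ y) := by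
    intro y
    by_contra hns
    apply y.2
    apply hm'm
    apply hmem_m'
    have : θ (y : MvPolynomial (Fin n) R) = 0 := by
      show res (ψ y) = 0
      exact (IsLocalRing.residue_eq_zero_iff _).2 hns
    rw [this]
    exact V.nonunits.zero_mem
  haveI := hm.isPrime
  let φ : Localization.AtPrime m →ₐ[R] S := IsLocalization.liftAlgHom (M := m.primeCompl) hunit
  have hφ : ∀ f, φ (algebraMap _ _ f) = ψ f := fun f => IsLocalization.lift_eq _ f
  have hB'φ : ∀ b ∈ B', b ∈ φ.range := by
    intro b hb
    rw [← hψrange] at hb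
    obtain ⟨f, rfl⟩ := hb
    exact ⟨algebraMap _ _ f, hφ f⟩
  refine ⟨n, m, hm, hunder, φ, (IsUnit.submonoid S).comap (algebraMap φ.range S), ?_⟩
  rw [isLocalization_iff]
  refine ⟨fun y => y.2, ?_, ?_⟩
  · intro z
    obtain ⟨b, hb, hbu, hzb⟩ := hfrac z
    exact ⟨⟨⟨z * b, hB'φ _ hzb⟩, ⟨⟨b, hB'φ _ hb⟩, hbu⟩⟩, rfl⟩
  · intro x y hxy
    exact ⟨1, by rw [Subtype.ext hxy]⟩

end Groth.Agent.Helper7.EssLoc
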